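import Mathlib.AlgebraicGeometry.AffineTransitionLimit
import Mathlib.AlgebraicGeometry.Morphisms.Flat
import Mathlib.RingTheory.Flat.EquationalCriterion
import Mathlib.CategoryTheory.Limits.Constructions.Over.Connected
import Mathlib.CategoryTheory.Limits.Connected
import Mathlib.CategoryTheory.Adjunction.Limits
import Mathlib.CategoryTheory.Comma.Over.Pullback

/-!
# Cofiltered limits of affine flat surjective schemes over a base
-/

set_option autoImplicit false
set_option backward.isDefEq.respectTransparency false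
set_option backward.isDefEq.respectTransparency.types false

universe u

open CategoryTheory CategoryTheory.Limits AlgebraicGeometry Opposite

namespace Groth.Agent.H14TorLim

variable {X : Scheme.{u}} {I : Type u} [SmallCategory I] [IsCofiltered I] (D : I ⥤ Over X) (c : Cone D)

attribute [local instance] IsCofiltered.isConnected

/-- A limit over `X` is a limit of schemes. -/
theorem nonempty_isLimit_forget_over (hc : IsLimit c) :
    Nonempty (IsLimit ((Over.forget X).mapCone c)) :=
  ⟨isLimitOfPreserves (Over.forget X) hc⟩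

theorem isAffineHom_forget_map [∀ i, IsAffineHom (D.obj i).hom] ⦃i j : I⦄ (f : i ⟶ j) :
    IsAffineHom ((D ⋙ Over.forget X).map f) := by
  haveI : IsAffineHom ((D.map f).left ≫ (D.obj j).hom) := by rw [Over.w]; infer_instance
  exact IsAffineHom.of_comp (D.map f).left (D.obj j).hom

/-- The structure map of the limit is affine. -/
theorem isAffineHom_hom (hc : IsLimit c) [∀ i, IsAffineHom (D.obj i).hom] : IsAffineHom c.pt.hom := by
  obtain ⟨hc'⟩ := nonempty_isLimit_forget_over D c hc
  obtain ⟨i⟩ := (IsCofiltered.nonempty : Nonempty I)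
  haveI : ∀ {i j : I} (f : i ⟶ j), IsAffineHom ((D ⋙ Over.forget X).map f) :=
    fun f => isAffineHom_forget_map D f
  haveI : IsAffineHom (c.π.app i).left := isAffineHom_π_app (D ⋙ Over.forget X) _ hc' i
  have hw : (c.π.app i).left ≫ (D.obj i).hom = c.pt.hom := Over.w (c.π.app i)
  rw [← hw]
  infer_instance

/-- Flatness of the ring of the limit over an affine base. -/
theorem flat_hom_of_isAffine [IsAffine X] (hc : IsLimit c) [∀ i, IsAffineHom (D.obj i).hom]
    [∀ i, Flat (D.obj i).hom] : Flat c.pt.hom := by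
  obtain ⟨hc'⟩ := nonempty_isLimit_forget_over D c hc
  haveI : ∀ {i j : I} (f : i ⟶ j), IsAffineHom ((D ⋙ Over.forget X).map f) :=
    fun f => isAffineHom_forget_map D f
  haveI : ∀ i, IsAffine ((D ⋙ Over.forget X).obj i) := fun i => isAffine_of_isAffineHom (D.obj i).hom
  haveI : ∀ i, IsAffine (D.obj i).left := fun i => isAffine_of_isAffineHom (D.obj i).hom
  haveI := isAffineHom_hom D c hc
  haveI : IsAffine c.pt.left := isAffine_of_isAffineHom c.pt.hom
  rw [HasRingHomProperty.iff_of_isAffine (P := @Flat)]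
  let R := Γ(X, ⊤)
  have hB : ∀ i, ((D.obj i).hom.appTop.hom).Flat := fun i =>
    (HasRingHomProperty.iff_of_isAffine (P := @Flat)).1 inferInstance
  letI : Algebra R Γ(c.pt.left, ⊤) := c.pt.hom.appTop.hom.toAlgebra
  show Module.Flat R Γ(c.pt.left, ⊤)
  refine Module.Flat.iff_forall_isTrivialRelation.2 fun {l} {f} {x} hx => ?_
  -- lift the `x i` to a common stage
  have hlift : ∀ m : Fin l, ∃ (i : I) (b : Γ((D.obj i).left, ⊤)), (c.π.app i).left.appTop b = x m := fun m => by
    obtain ⟨i, b, hb⟩ := exists_appTop_π_eq_of_isLimit (D ⋙ Over.forget X) _ hc' (x m)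
    exact ⟨i, b, hb.symm⟩
  choose i b hb using hlift
  classical
  obtain ⟨k, hk⟩ := IsCofiltered.inf_objs_exists (Finset.univ.image i)
  let g : ∀ m, k ⟶ i m := fun m => (hk (Finset.mem_image_of_mem i (Finset.mem_univ m))).some
  have comm : ∀ {p q : I} (h : p ⟶ q) (z : Γ((D.obj q).left, ⊤)),
      (c.π.app p).left.appTop ((D.map h).left.appTop z) = (c.π.app q).left.appTop z := fun {p q} h z => by
    have hw : (c.π.app p).left ≫ (D.map h).left = (c.π.app q).left := congrArg Over.Hom.left (c.w h)
    rw [← hw]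
    rfl
  have strucπ : ∀ (p : I) (r : R), (c.π.app p).left.appTop ((D.obj p).hom.appTop r) = c.pt.hom.appTop r :=
    fun p r => by
    have hw : (c.π.app p).left ≫ (D.obj p).hom = c.pt.hom := Over.w (c.π.app p)
    rw [← hw]
    rfl
  let bk : Fin l → Γ((D.obj k).left, ⊤) := fun m => (D.map (g m)).left.appTop (b m)
  have hbk : ∀ m, (c.π.app k).left.appTop (bk m) = x m := fun m => (comm (g m) (b m)).trans (hb m)
  have hz : (c.π.app k).left.appTop (∑ m, (D.obj k).hom.appTop (f m) * bk m) = 0 := by
    refine Eq.trans ?_ hx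
    rw [map_sum]
    refine Finset.sum_congr rfl fun m _ => ?_
    rw [map_mul, strucπ, hbk, Algebra.smul_def]
    rfl
  obtain ⟨j, h, hj⟩ := exists_appTop_map_eq_zero_of_isLimit (D ⋙ Over.forget X) _ hc' _ hz
  letI : Algebra R Γ((D.obj j).left, ⊤) := (D.obj j).hom.appTop.hom.toAlgebra
  haveI : Module.Flat R Γ((D.obj j).left, ⊤) := hB j
  let bj : Fin l → Γ((D.obj j).left, ⊤) := fun m => (D.map h).left.appTop (bk m)
  have hrel : ∑ m, f m • bj m = 0 := by
    refine Eq.trans ?_ hj
    show _ = (D.map h).left.appTop _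
    rw [map_sum]
    refine Finset.sum_congr rfl fun m _ => ?_
    rw [map_mul, Algebra.smul_def]
    congr 1
    show (D.obj j).hom.appTop (f m) = (D.map h).left.appTop ((D.obj k).hom.appTop (f m))
    rw [← Over.w (D.map h)]
    rfl
  obtain ⟨n, a, y, hy, ha⟩ := Module.Flat.iff_forall_isTrivialRelation.1 ‹_› hrel
  refine ⟨n, a, fun p => (c.π.app j).left.appTop (y p), fun m => ?_, ha⟩
  rw [← hbk m, ← comm h (bk m)]
  show (c.π.app j).left.appTop (bj m) = _
  rw [hy m, map_sum]
  refine Finset.sum_congr rfl fun p _ => ?_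
  rw [Algebra.smul_def, Algebra.smul_def, map_mul]
  exact congrArg (· * (c.π.app j).left.appTop (y p)) (strucπ j (a m p))

/-- The base changed cone. -/
noncomputable def baseCone {Y : Scheme.{u}} (g : Y ⟶ X) : Cone (D ⋙ Over.pullback g) :=
  (Over.pullback g).mapCone c

theorem nonempty_isLimit_baseCone (hc : IsLimit c) {Y : Scheme.{u}} (g : Y ⟶ X) :
    Nonempty (IsLimit (baseCone D c g)) :=
  haveI := (Over.mapPullbackAdj g).rightAdjoint_preservesLimits.{u, u}
  ⟨isLimitOfPreserves (Over.pullback g) hc⟩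

/-- Limits of affine flat schemes are flat. -/
theorem flat_hom (hc : IsLimit c) [∀ i, IsAffineHom (D.obj i).hom] [∀ i, Flat (D.obj i).hom] :
    Flat c.pt.hom := by
  refine (IsZariskiLocalAtTarget.iff_of_openCover (P := @Flat) X.affineCover).2 fun U => ?_
  haveI : IsAffine (X.affineCover.X U) := inferInstanceAs (IsAffine (Spec _))
  let g := X.affineCover.f U
  haveI : ∀ i, IsAffineHom ((D ⋙ Over.pullback g).obj i).hom := fun i =>
    MorphismProperty.pullback_snd (P := @IsAffineHom) _ _ inferInstance
  haveI : ∀ i, Flat ((D ⋙ Over.pullback g).obj i).hom := fun i =>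
    MorphismProperty.pullback_snd (P := @Flat) _ _ inferInstance
  obtain ⟨hg⟩ := nonempty_isLimit_baseCone D c hc g
  exact flat_hom_of_isAffine _ _ hg

/-- Limits of affine surjective schemes are surjective. -/
theorem surjective_hom (hc : IsLimit c) [∀ i, IsAffineHom (D.obj i).hom]
    [∀ i, Surjective (D.obj i).hom] : Surjective c.pt.hom := by
  refine ⟨fun x => ?_⟩
  let g := X.fromSpecResidueField x
  haveI : ∀ i, IsAffineHom ((D ⋙ Over.pullback g).obj i).hom := fun i =>
    MorphismProperty.pullback_snd (P := @IsAffineHom) _ _ inferInstance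
  haveI : ∀ i, Surjective ((D ⋙ Over.pullback g).obj i).hom := fun i =>
    MorphismProperty.pullback_snd (P := @Surjective) _ _ inferInstance
  haveI : ∀ {i j : I} (f : i ⟶ j), IsAffineHom (((D ⋙ Over.pullback g) ⋙ Over.forget _).map f) :=
    fun f => isAffineHom_forget_map _ f
  haveI : ∀ i, IsAffine (((D ⋙ Over.pullback g) ⋙ Over.forget _).obj i) := fun i =>
    isAffine_of_isAffineHom ((D ⋙ Over.pullback g).obj i).hom
  haveI : ∀ i, Nonempty (((D ⋙ Over.pullback g) ⋙ Over.forget _).obj i) := fun i =>
    ⟨(((D ⋙ Over.pullback g).obj i).hom.surjective default).choose⟩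
  haveI : ∀ i, CompactSpace (((D ⋙ Over.pullback g) ⋙ Over.forget _).obj i) := fun i => inferInstance
  obtain ⟨hg⟩ := nonempty_isLimit_baseCone D c hc g
  obtain ⟨hg'⟩ := nonempty_isLimit_forget_over _ _ hg
  obtain ⟨z⟩ := Scheme.nonempty_of_isLimit _ _ hg'
  refine ⟨(pullback.fst c.pt.hom g).base z, ?_⟩
  rw [← Scheme.Hom.comp_apply, pullback.condition, Scheme.Hom.comp_apply]
  exact Scheme.fromSpecResidueField_apply x _

end Groth.Agent.H14TorLim
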