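import Mathlib.CategoryTheory.Monoidal.Cartesian.Grp
import Mathlib.CategoryTheory.Monoidal.Internal.Limits
import Mathlib.CategoryTheory.Limits.Preserves.Basic

/-!
# A limit cone of group objects is a limit cone of the underlying objects, when that limit exists
-/

set_option autoImplicit false
set_option backward.isDefEq.respectTransparency false
set_option backward.isDefEq.respectTransparency.types false

universe u v w

open CategoryTheory CategoryTheory.Limits MonoidalCategory CartesianMonoidalCategory MonObj GrpObj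

namespace Groth.Agent.H14TorLim

variable {C : Type u} [Category.{v} C] [CartesianMonoidalCategory C] {J : Type w} [Category J]
  (F : J ⥤ Grp C) (c : Cone (F ⋙ Grp.forget C)) (hc : IsLimit c)

theorem inv_mul_comp {A G : C} [GrpObj G] (p : A ⟶ G) :
    lift (p ≫ ι[G]) p ≫ μ[G] = toUnit A ≫ η[G] := by
  rw [← Category.comp_id p, Category.assoc, ← comp_lift_assoc, Category.id_comp, GrpObj.left_inv,
    ← Category.assoc, comp_toUnit]

theorem mul_inv_comp {A G : C} [GrpObj G] (p : A ⟶ G) :
    lift p (p ≫ ι[G]) ≫ μ[G] = toUnit A ≫ η[G] := by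
  rw [← Category.comp_id p, Category.assoc, ← comp_lift_assoc, Category.id_comp, GrpObj.right_inv,
    ← Category.assoc, comp_toUnit]

/-- The limit monoid. -/
noncomputable def limMon : Mon C := Mon.limit (F ⋙ Grp.forget₂Mon C) c hc

/-- The inverses form a cone. -/
noncomputable def invCone : Cone (F ⋙ Grp.forget C) where
  pt := c.pt
  π :=
    { app := fun j => c.π.app j ≫ ι[(F.obj j).X]
      naturality := fun i j f => by
        show 𝟙 c.pt ≫ c.π.app j ≫ ι[(F.obj j).X] = (c.π.app i ≫ ι[(F.obj i).X]) ≫ (F.map f).hom.hom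
        have h : ι[(F.obj i).X] ≫ (F.map f).hom.hom = (F.map f).hom.hom ≫ ι[(F.obj j).X] := by
          rw [GrpObj.inv_eq_inv, GrpObj.inv_eq_inv, GrpObj.inv_comp, GrpObj.comp_inv, Category.id_comp,
            Category.comp_id]
        rw [Category.id_comp, Category.assoc, h, ← c.w f, Category.assoc]
        rfl }

instance isMonHom_π (j : J) : IsMonHom (M := (limMon F c hc).X) (N := (F.obj j).X) (c.π.app j) :=
  ((Mon.limitCone (F ⋙ Grp.forget₂Mon C) c hc).π.app j).isMonHom_hom

/-- The limit group. -/
noncomputable def limGrp : Grp C where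
  X := (limMon F c hc).X
  grp :=
    { inv := hc.lift (invCone F c)
      left_inv := hc.hom_ext fun j => by
        show (lift (hc.lift (invCone F c)) (𝟙 _) ≫ μ[(limMon F c hc).X]) ≫ c.π.app j =
          (toUnit _ ≫ η[(limMon F c hc).X]) ≫ c.π.app j
        rw [Category.assoc, Category.assoc, IsMonHom.one_hom (M := (limMon F c hc).X) (N := (F.obj j).X) (f := c.π.app j), IsMonHom.mul_hom (M := (limMon F c hc).X) (N := (F.obj j).X) (f := c.π.app j),
          ← Category.assoc, lift_map, hc.fac, Category.id_comp]
        exact inv_mul_comp (G := (F.obj j).X) (c.π.app j)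
      right_inv := hc.hom_ext fun j => by
        show (lift (𝟙 _) (hc.lift (invCone F c)) ≫ μ[(limMon F c hc).X]) ≫ c.π.app j =
          (toUnit _ ≫ η[(limMon F c hc).X]) ≫ c.π.app j
        rw [Category.assoc, Category.assoc, IsMonHom.one_hom (M := (limMon F c hc).X) (N := (F.obj j).X) (f := c.π.app j), IsMonHom.mul_hom (M := (limMon F c hc).X) (N := (F.obj j).X) (f := c.π.app j),
          ← Category.assoc, lift_map, hc.fac, Category.id_comp]
        exact mul_inv_comp (G := (F.obj j).X) (c.π.app j) }

/-- Its cone. -/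
noncomputable def grpCone : Cone F where
  pt := limGrp F c hc
  π :=
    { app := fun j => Grp.homMk' ((Mon.limitCone (F ⋙ Grp.forget₂Mon C) c hc).π.app j)
      naturality := fun i j f => by
        apply (Grp.forget₂Mon C).map_injective
        exact (Mon.limitCone (F ⋙ Grp.forget₂Mon C) c hc).π.naturality f }

/-- It is a limit. -/
noncomputable def isLimitGrpCone : IsLimit (grpCone F c hc) :=
  isLimitOfReflects (Grp.forget₂Mon C)
    (IsLimit.ofIsoLimit (Mon.limitConeIsLimit (F ⋙ Grp.forget₂Mon C) c hc)
      (Cone.ext (Iso.refl _) fun j => (Category.id_comp _).symm))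

/-- A limit cone of groups maps to a limit cone. -/
theorem nonempty_isLimit_forget (c₀ : Cone (F ⋙ Grp.forget C)) (hc₀ : IsLimit c₀) (d : Cone F)
    (hd : IsLimit d) : Nonempty (IsLimit ((Grp.forget C).mapCone d)) := by
  let e := hd.uniqueUpToIso (isLimitGrpCone F c₀ hc₀)
  exact ⟨IsLimit.ofIsoLimit hc₀ ((Cone.ext (Iso.refl _) fun j => (Category.id_comp _).symm :
    c₀ ≅ (Grp.forget C).mapCone (grpCone F c₀ hc₀)) ≪≫ ((Cone.functoriality F (Grp.forget C)).mapIso e).symm)⟩

end Groth.Agent.H14TorLim
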